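import Groth.Agent.HopfIneqLib.Basic
import Groth.Agent.CurveVBLib.Basic
import Groth.Agent.CurveVBLib.Torsion
import Groth.Agent.GenusZeroLib.Mult
import Groth.Agent.AmpleLib.Powers
import Groth.Agent.SerreVanLib.TwTensor
import Groth.Prelude.Def_DCoh4

/-!
# Dimensions of spaces of sections of tensor products
-/

set_option autoImplicit false
universe u

open CategoryTheory CategoryTheory.Limits AlgebraicGeometry TopologicalSpace Opposite
open scoped TensorProduct
open DevissLib
open AmpleLib (shT)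
open GenusZeroLib (kmod e0k ρ)

noncomputable section

namespace HopfIneqLib

variable {X : Scheme.{u}}

/-- Tensor products of bundles are bundles. -/
theorem locFree_tensor {a b : ℕ} {A B : X.Modules} (hA : FlatMod.IsFinLocFreeOfRank a A)
    (hB : FlatMod.IsFinLocFreeOfRank b B) : FlatMod.IsFinLocFreeOfRank (a * b) (CohB1.tensorMod A B) := by
  intro x
  obtain ⟨U₁, h₁, ⟨e₁⟩⟩ := hA x
  obtain ⟨U₂, h₂, ⟨e₂⟩⟩ := hB x
  let U := U₁ ⊓ U₂
  let φ := fun N : X.Modules => (Scheme.Modules.restrictFunctorIsoPullback U.ι).app N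
  have key : ∀ {n : ℕ} {E : X.Modules} (W : X.Opens) (hUW : U ≤ W)
      (e : E.restrict W.ι ≅ FlatMod.freeMod (W : Scheme.{u}) n),
      Nonempty ((Scheme.Modules.pullback U.ι).obj E ≅ FlatMod.freeMod (U : Scheme.{u}) n) := fun {n E} W hUW e =>
    ⟨(Scheme.Modules.pullbackCongr (X.homOfLE_ι hUW).symm).app E ≪≫
      ((Scheme.Modules.pullbackComp (X.homOfLE hUW) W.ι).app E).symm ≪≫
      (Scheme.Modules.pullback (X.homOfLE hUW)).mapIso
        (((Scheme.Modules.restrictFunctorIsoPullback W.ι).app E).symm ≪≫ e) ≪≫ KFlatLib.pullFreeIso _ n⟩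
  obtain ⟨fA⟩ := key U₁ inf_le_left e₁
  obtain ⟨fB⟩ := key U₂ inf_le_right e₂
  let F := FlatMod.freeMod (U : Scheme.{u}) a
  let T : (U : Scheme.{u}).Modules ⥤ (U : Scheme.{u}).Modules := (DCoh.tensorBi (X := (U : Scheme.{u}))).obj F
  haveI : T.Additive := inferInstanceAs ((DCoh.tensorBi (X := (U : Scheme.{u}))).obj F).Additive
  haveI : PreservesFiniteCoproducts T := inferInstance
  let w : T.obj (FlatMod.freeMod (U : Scheme.{u}) b) ≅ FlatMod.freeMod (U : Scheme.{u}) (a * b) :=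
    PreservesCoproduct.iso T _ ≪≫
      Sigma.mapIso (fun _ : Fin b => (KFlatLib.tensSwap (Coh.structureModule _) F) ≪≫ KFlatLib.tensUnitIso F) ≪≫
      sigmaSigmaIso (fun _ : Fin b => Fin a) (fun _ _ => Coh.structureModule (U : Scheme.{u})) ≪≫
      Sigma.whiskerEquiv (f := fun _ : (_ : Fin b) × Fin a => Coh.structureModule (U : Scheme.{u}))
        (g := fun _ : Fin (a * b) => Coh.structureModule (U : Scheme.{u})) ((Equiv.sigmaEquivProd (Fin b) (Fin a)).trans
        ((Equiv.prodComm (Fin b) (Fin a)).trans finProdFinEquiv)) (fun _ => Iso.refl _)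
  exact ⟨U, ⟨h₁, h₂⟩, ⟨φ _ ≪≫ @asIso _ _ _ _ (KFlatLib.pullθ U.ι A B) (KFlatLib.isIso_pullθ _ _ _) ≪≫
    ((DCoh.tensorBi (X := (U : Scheme.{u}))).mapIso fA).app _ ≪≫ T.mapIso fB ≪≫ w⟩⟩

variable [IsIntegral X]

/-- Sections of bundles on integral schemes are determined at the generic point. -/
theorem eq_zero_of_generic {n : ℕ} {E : X.Modules} (hE : FlatMod.IsFinLocFreeOfRank n E) [Coh.IsQCoh E]
    {W : X.Opens} (s : Γ(E, W)) (hη : genericPoint X ∈ W) (h : gm E (genericPoint X) hη s = 0) : s = 0 := by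
  refine TwistLib.mod_ext E fun y hy => ?_
  rw [map_zero]
  obtain ⟨V, hV, hyV, hle⟩ := Opens.isBasis_iff_nbhd.mp X.isBasis_affineOpens hy
  have hηV : genericPoint X ∈ V := ((genericPoint_spec X).mem_open_set_iff V.2).mpr ⟨y, trivial, hyV⟩
  obtain ⟨W', hηW', i₁, i₂, he⟩ := TopCat.Presheaf.germ_eq E.presheaf _ hη hη s (0 : Γ(E, W))
    (h.trans (map_zero _).symm)
  obtain ⟨f, hfle, hηf⟩ := hV.exists_basicOpen_le (⟨genericPoint X, hηW', hηV⟩ : (W' ⊓ V : X.Opens)) hηV
  have hr : E.presheaf.map (homOfLE (X.basicOpen_le f)).op (E.presheaf.map (homOfLE hle).op s) = 0 := by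
    have h1 := congrArg (E.presheaf.map (homOfLE (hfle.trans inf_le_left : X.basicOpen f ≤ W')).op) he
    rw [map_zero, map_zero] at h1
    exact (QCohLib.map_map' E _ _ _).trans ((QCohLib.map_map' E _ i₁ _).symm.trans h1)
  obtain ⟨m, hm⟩ := (QCohLib.localizingAt_of_isQCoh hV E f).eq_zero (E.presheaf.map (homOfLE hle).op s) hr
  simp only [homOfLE_refl, op_id, CategoryTheory.Functor.map_id, CommRingCat.id_apply] at hm
  let r : X.presheaf.stalk y := X.presheaf.germ V y hyV (f ^ m)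
  have hr0 : r ≠ 0 := by
    intro h0
    haveI : Nonempty V := ⟨⟨y, hyV⟩⟩
    have hf0 : f ^ m = 0 := germ_injective_of_isIntegral X y hyV (h0.trans (map_zero _).symm)
    have hf : f = 0 := pow_eq_zero_iff'.mp hf0 |>.1
    rw [hf, Scheme.basicOpen_zero] at hηf
    exact hηf
  have hz : r • (show (St y).obj E from gm E y hy s) = 0 := by
    rw [← gm_map E hle y hyV s]
    exact (AmpleLib.germ_smul E (f ^ m) _ hyV).symm.trans
      ((congrArg (fun z : Γ(E, V) => gm E y hyV z) hm).trans (map_zero _))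
  obtain ⟨U, hU, ⟨φ⟩⟩ := hE y
  obtain ⟨e⟩ := CurveVBLib.nonempty_stalk_pi_on φ hU
  refine e.injective ((funext fun l => ?_ : e (show (St y).obj E from gm E y hy s) = 0).trans e.map_zero.symm)
  have h1 := congrFun (congrArg e hz) l
  rw [map_smul, map_zero, Pi.smul_apply, Pi.zero_apply, smul_eq_mul] at h1
  exact (mul_eq_zero.mp h1).resolve_left hr0

omit [IsIntegral X] in
theorem shT_add_left {M N : X.Modules} {W : X.Opens} (m m' : Γ(M, W)) (n : Γ(N, W)) :
    shT (m + m') n = shT m n + shT m' n := by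
  refine Eq.trans ?_ (KFlatLib.shApp_add M N W _ _)
  exact congrArg (KFlatLib.shApp M N W) (TensorProduct.add_tmul _ _ _)

omit [IsIntegral X] in
theorem shT_add_right {M N : X.Modules} {W : X.Opens} (m : Γ(M, W)) (n n' : Γ(N, W)) :
    shT m (n + n') = shT m n + shT m n' := by
  refine Eq.trans ?_ (KFlatLib.shApp_add M N W _ _)
  exact congrArg (KFlatLib.shApp M N W) (TensorProduct.tmul_add _ _ _)

/-- Pure tensors of nonzero sections are nonzero. -/
theorem shT_ne_zero {a b : ℕ} {A B : X.Modules} (hA : FlatMod.IsFinLocFreeOfRank a A) [Coh.IsQCoh A]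
    (hB : FlatMod.IsFinLocFreeOfRank b B) [Coh.IsQCoh B] (s : Γ(A, ⊤)) (t : Γ(B, ⊤))
    (h : shT s t = 0) : s = 0 ∨ t = 0 := by
  let η := genericPoint X
  let K := X.presheaf.stalk η
  letI : Field K := (inferInstance : Field X.functionField)
  let u : (St η).obj A := gm A η (U := ⊤) trivial s
  let v : (St η).obj B := gm B η (U := ⊤) trivial t
  suffices huv : u = 0 ∨ v = 0 by
    exact huv.imp (eq_zero_of_generic hA s trivial) (eq_zero_of_generic hB t trivial)
  have h0 : u ⊗ₜ[K] v = 0 := by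
    refine (KFlatLib.stalkTensorLin_bijective A B η).1 ?_
    refine Eq.trans ?_ (LinearMap.map_zero _).symm
    refine (KFlatLib.stalkTensorLin_germ A B η (U := ⊤) trivial s t).trans ?_
    exact (congrArg _ h).trans (map_zero _)
  by_contra hne
  rw [not_or] at hne
  obtain ⟨φ, hφ⟩ := not_forall.mp fun h => hne.1 ((Module.forall_dual_apply_eq_zero_iff K u).mp h)
  obtain ⟨ψ, hψ⟩ := not_forall.mp fun h => hne.2 ((Module.forall_dual_apply_eq_zero_iff K v).mp h)
  have h1 := congrArg ((TensorProduct.lid K K).toLinearMap ∘ₗ TensorProduct.map φ ψ) h0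
  rw [map_zero] at h1
  exact mul_ne_zero hφ hψ h1

variable {k : Type u} [Field k] [IsAlgClosed k] [X.Over (Spec (CommRingCat.of k))]
  [IsProper (X ↘ Spec (CommRingCat.of k))]

/-- `h⁰(A) + h⁰(B) ≤ h⁰(A ⊗ B) + 1`. -/
theorem h0_add_le {a b : ℕ} {A B : X.Modules} (hA : FlatMod.IsFinLocFreeOfRank a A)
    (hB : FlatMod.IsFinLocFreeOfRank b B) (hT : Coh.IsCoh (CohB1.tensorMod A B))
    [Nontrivial (Coh.HH X A 0)] [Nontrivial (Coh.HH X B 0)] :
    Module.finrank k (Coh.HH X A 0) + Module.finrank k (Coh.HH X B 0) ≤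
      Module.finrank k (Coh.HH X (CohB1.tensorMod A B) 0) + 1 := by
  haveI := CurvLib.isNoetherian k (X := X)
  have hAc := CurvLib.isCoh_of_locFree hA
  have hBc := CurvLib.isCoh_of_locFree hB
  haveI := hAc.1
  haveI := hBc.1
  letI := kmod k A
  letI := kmod k B
  letI := kmod k (CohB1.tensorMod A B)
  haveI := CurvLib.finite_HH (k := k) hAc 0
  haveI := CurvLib.finite_HH (k := k) hBc 0
  haveI := CurvLib.finite_HH (k := k) hT 0
  haveI : Module.Finite k Γ(A, ⊤) := Module.Finite.equiv (e0k k A)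
  haveI : Module.Finite k Γ(B, ⊤) := Module.Finite.equiv (e0k k B)
  haveI : Module.Finite k Γ(CohB1.tensorMod A B, ⊤) := Module.Finite.equiv (e0k k _)
  haveI : Nontrivial Γ(A, ⊤) := (e0k k A).symm.toEquiv.nontrivial
  haveI : Nontrivial Γ(B, ⊤) := (e0k k B).symm.toEquiv.nontrivial
  rw [(e0k k A).finrank_eq, (e0k k B).finrank_eq, (e0k k (CohB1.tensorMod A B)).finrank_eq]
  refine finrank_add_le (LinearMap.mk₂ k (fun s t => shT s t) shT_add_left ?_ shT_add_right ?_) fun s t h => ?_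
  · intro c s t
    change shT (ρ (X := X) k c • s) t = ρ (X := X) k c • shT s t
    have := AmpleLib.shT_smul (ρ (X := X) k c) 1 s t
    rwa [one_smul, mul_one] at this
  · intro c s t
    change shT s (ρ (X := X) k c • t) = ρ (X := X) k c • shT s t
    have := AmpleLib.shT_smul 1 (ρ (X := X) k c) s t
    rwa [one_smul, one_mul] at this
  · exact shT_ne_zero hA hB s t h

end HopfIneqLib

end
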