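import Mathlib.RingTheory.Nullstellensatz
import Mathlib.RingTheory.Jacobson.Ring
import Mathlib.RingTheory.Ideal.KrullsHeightTheorem
import Mathlib.RingTheory.Polynomial.Basic
import Mathlib.LinearAlgebra.FreeModule.Finite.Basic
import Mathlib.LinearAlgebra.Dimension.Finrank

/-!
# Hopf's lemma on bilinear maps without zero divisors
-/

set_option autoImplicit false
universe u v

noncomputable section

namespace HopfIneqLib

open MvPolynomial

variable {k : Type u} [Field k] [IsAlgClosed k]

/-- The Segre map on coordinate rings. -/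
def segre (a b : ℕ) : MvPolynomial (Fin a × Fin b) k →ₐ[k] MvPolynomial (Fin a ⊕ Fin b) k :=
  aeval fun p => X (Sum.inl p.1) * X (Sum.inr p.2)

/-- The stage at which a variable is killed. -/
def stage (a b : ℕ) : Fin a ⊕ Fin b → ℕ
  | Sum.inl i => if (i : ℕ) + 1 < a then i else a + b - 2
  | Sum.inr j => if (j : ℕ) + 1 < b then a - 1 + j else a + b - 2

/-- Substitution killing the variables of stage less than `t`. -/
def kill (a b t : ℕ) : MvPolynomial (Fin a ⊕ Fin b) k →ₐ[k] MvPolynomial (Fin a ⊕ Fin b) k :=
  aeval fun v => if t ≤ stage a b v then X v else 0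

omit [IsAlgClosed k] in
theorem kill_comp (a b : ℕ) {s t : ℕ} (h : s ≤ t) :
    (kill (k := k) a b t).comp (kill a b s) = kill a b t := by
  refine MvPolynomial.algHom_ext fun v => ?_
  simp only [kill, AlgHom.comp_apply, aeval_X]
  by_cases hv : s ≤ stage a b v
  · simp [hv]
  · have : ¬ t ≤ stage a b v := fun h' => hv (h.trans h')
    simp [hv, this]

/-- Hopf's lemma: a family of bilinear forms with no common zero off the two axes. -/
theorem add_le_of_no_zero {a b n : ℕ} (ha : 0 < a) (hb : 0 < b) (c : Fin n → Fin a → Fin b → k)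
    (h : ∀ (v : Fin a → k) (w : Fin b → k), (∀ l, ∑ i, ∑ j, c l i j * (v i * w j) = 0) → v = 0 ∨ w = 0) :
    a + b ≤ n + 1 := by
  classical
  let P := MvPolynomial (Fin a × Fin b) k
  let P₀ : Ideal P := RingHom.ker (segre (k := k) a b).toRingHom
  haveI : P₀.IsPrime := RingHom.ker_isPrime _
  let R := P ⧸ P₀
  let σ : R →+* MvPolynomial (Fin a ⊕ Fin b) k := Ideal.Quotient.lift P₀ (segre (k := k) a b).toRingHom fun _ hz => hz
  let Q : ℕ → Ideal R := fun t => RingHom.ker ((kill (k := k) a b t).toRingHom.comp σ)
  have hQp : ∀ t, (Q t).IsPrime := fun t => RingHom.ker_isPrime _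
  have hσ : ∀ i j, σ (Ideal.Quotient.mk P₀ (X (i, j))) = X (Sum.inl i) * X (Sum.inr j) := fun i j => by
    change segre (k := k) a b (X (i, j)) = _
    simp [segre]
  have hlt : ∀ t, t + 1 ≤ a + b - 1 → Q t < Q (t + 1) := by
    intro t ht
    obtain ⟨i, j, hi, hj, hk⟩ : ∃ i j, t ≤ stage a b (Sum.inl i) ∧ t ≤ stage a b (Sum.inr j) ∧
        (stage a b (Sum.inl i) = t ∨ stage a b (Sum.inr j) = t) := by
      by_cases h1 : t + 1 < a
      · refine ⟨⟨t, by omega⟩, ⟨b - 1, by omega⟩, ?_⟩
        have e1 : stage a b (Sum.inl ⟨t, by omega⟩) = t := by simp [stage, h1]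
        have e2 : stage a b (Sum.inr ⟨b - 1, by omega⟩) = a + b - 2 := by
          simp only [stage]; rw [if_neg (by omega)]
        exact ⟨e1.ge, by omega, Or.inl e1⟩
      · by_cases h2 : t + 1 < a + b - 1
        · refine ⟨⟨a - 1, by omega⟩, ⟨t - (a - 1), by omega⟩, ?_⟩
          have e1 : stage a b (Sum.inl ⟨a - 1, by omega⟩) = a + b - 2 := by
            simp only [stage]; rw [if_neg (by omega)]
          have e2 : stage a b (Sum.inr ⟨t - (a - 1), by omega⟩) = t := by
            simp only [stage]; rw [if_pos (by omega)]; omega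
          exact ⟨by omega, e2.ge, Or.inr e2⟩
        · refine ⟨⟨a - 1, by omega⟩, ⟨b - 1, by omega⟩, ?_⟩
          have e1 : stage a b (Sum.inl ⟨a - 1, by omega⟩) = a + b - 2 := by
            simp only [stage]; rw [if_neg (by omega)]
          have e2 : stage a b (Sum.inr ⟨b - 1, by omega⟩) = a + b - 2 := by
            simp only [stage]; rw [if_neg (by omega)]
          exact ⟨by omega, by omega, Or.inl (by omega)⟩
    refine lt_of_le_not_ge (fun z hz => ?_) fun hle => ?_
    · change kill (k := k) a b (t + 1) (σ z) = 0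
      rw [← kill_comp a b (Nat.le_succ t), AlgHom.comp_apply, show kill (k := k) a b t (σ z) = 0 from hz, map_zero]
    · have h1 : Ideal.Quotient.mk P₀ (X (i, j)) ∈ Q (t + 1) := by
        change kill (k := k) a b (t + 1) (σ _) = 0
        rw [hσ, map_mul]
        rcases hk with hk | hk <;> simp [kill, hk]
      have h2 : kill (k := k) a b t (σ (Ideal.Quotient.mk P₀ (X (i, j)))) = 0 := hle h1
      rw [hσ, map_mul] at h2
      simp [kill, hi, hj] at h2
  have hheight : ∀ t : ℕ, t ≤ a + b - 1 → (t : ℕ∞) ≤ (Q t).height := by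
    intro t
    induction t with
    | zero => exact fun _ => by simp
    | succ t ih =>
      intro ht
      haveI := hQp t
      haveI := hQp (t + 1)
      refine le_trans ?_ (Ideal.height_add_one_le_of_lt_of_isPrime (hlt t ht))
      push_cast
      exact add_le_add (ih (by omega)) le_rfl
  let N := a + b - 1
  haveI := hQp N
  let f : Fin n → P := fun l => ∑ i, ∑ j, C (c l i j) * X (i, j)
  let J : Ideal R := Ideal.span (Set.range fun l => Ideal.Quotient.mk P₀ (f l))
  have hkillN : ∀ v, kill (k := k) a b N (X v) = 0 := fun v => by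
    simp only [kill, aeval_X]
    rw [if_neg]
    rcases v with i | j <;> simp only [stage] <;> split_ifs <;> omega
  have hXQ : ∀ p : Fin a × Fin b, Ideal.Quotient.mk P₀ (X p) ∈ Q N := fun p => by
    change kill (k := k) a b N (σ _) = 0
    rw [show p = (p.1, p.2) from rfl, hσ, map_mul, hkillN, zero_mul]
  have hfQ : J ≤ Q N := by
    refine Ideal.span_le.mpr ?_
    rintro _ ⟨l, rfl⟩
    simp only [f, map_sum, map_mul]
    exact Ideal.sum_mem _ fun i _ => Ideal.sum_mem _ fun j _ => Ideal.mul_mem_left _ _ (hXQ (i, j))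
  have hmax : ∀ M : Ideal R, M.IsMaximal → J ≤ M → Q N ≤ M := by
    intro M hM hJM
    have hM' : (M.comap (Ideal.Quotient.mk P₀)).IsMaximal :=
      Ideal.comap_isMaximal_of_surjective _ Ideal.Quotient.mk_surjective
    obtain ⟨z, hz⟩ := (MvPolynomial.isMaximal_iff_eq_vanishingIdeal_singleton (K := k)).mp hM'
    have hmem : ∀ q : P, Ideal.Quotient.mk P₀ q ∈ M → aeval z q = 0 := fun q hq => by
      have : q ∈ vanishingIdeal k ({z} : Set (Fin a × Fin b → k)) := hz ▸ Ideal.mem_comap.mpr hq
      exact (mem_vanishingIdeal_iff.mp this) z rfl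
    have hrel : ∀ i i' j j', z (i, j) * z (i', j') = z (i, j') * z (i', j) := by
      intro i i' j j'
      have h0 : X (i, j) * X (i', j') - X (i, j') * X (i', j) ∈ P₀ := by
        change segre (k := k) a b _ = 0
        simp only [segre, map_sub, map_mul, aeval_X]
        ring
      have := hmem _ (by rw [Ideal.Quotient.eq_zero_iff_mem.mpr h0]; exact M.zero_mem)
      simpa [sub_eq_zero] using this
    have hlin : ∀ l, ∑ i, ∑ j, c l i j * z (i, j) = 0 := fun l => by
      have := hmem (f l) (hJM (Ideal.subset_span ⟨l, rfl⟩))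
      simpa [f] using this
    have hz0 : ∀ p, z p = 0 := by
      by_contra hne
      push Not at hne
      obtain ⟨⟨p, q⟩, hpq⟩ := hne
      rcases h (fun i => z (i, q)) (fun j => z (p, j) / z (p, q)) (fun l => by
        rw [← hlin l]
        refine Finset.sum_congr rfl fun i _ => Finset.sum_congr rfl fun j _ => ?_
        rw [← mul_div_assoc (z (i, q)), hrel i p q j, mul_div_assoc, div_self hpq, mul_one]) with h' | h'
      · exact hpq (congrFun h' p)
      · have := congrFun h' q
        simp [hpq] at this
    intro r hr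
    obtain ⟨q, rfl⟩ := Ideal.Quotient.mk_surjective r
    have hq : q ∈ M.comap (Ideal.Quotient.mk P₀) := by
      rw [hz]
      have e1 : aeval z q = constantCoeff q := by
        rw [show z = (0 : Fin a × Fin b → k) from funext hz0, aeval_zero]
        rfl
      have e2 : kill (k := k) a b N (segre a b q) = C (constantCoeff q) := by
        have hcomp : (kill (k := k) a b N).comp (segre a b) = aeval (0 : Fin a × Fin b → MvPolynomial (Fin a ⊕ Fin b) k) := by
          refine MvPolynomial.algHom_ext fun p => ?_
          simp [segre, hkillN]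
        rw [← AlgHom.comp_apply, hcomp, aeval_zero]
        rfl
      have e3 : kill (k := k) a b N (segre a b q) = 0 := hr
      rw [e2, map_eq_zero_iff _ (C_injective _ _)] at e3
      refine mem_vanishingIdeal_iff.mpr fun x hx => ?_
      rw [Set.mem_singleton_iff.mp hx]
      exact e1.trans e3
    exact hq
  obtain ⟨p, hp, hpQ⟩ := Ideal.exists_minimalPrimes_le hfQ
  haveI := hp.1.1
  have hQp' : Q N ≤ p := by
    have hj : p.jacobson = p := IsJacobsonRing.out inferInstance (inferInstance : p.IsPrime).isRadical
    rw [← hj, Ideal.jacobson]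
    exact le_sInf fun M ⟨hpM, hM⟩ => hmax M hM (hp.1.2.trans hpM)
  have hle : (Q N).height ≤ n := by
    rw [le_antisymm hQp' hpQ]
    refine (Ideal.height_le_card_of_mem_minimalPrimes_span (Set.finite_range _) hp).trans ?_
    exact_mod_cast (Finite.card_range_le _).trans (Nat.card_eq_fintype_card.trans (Fintype.card_fin n)).le
  have := (hheight N le_rfl).trans hle
  norm_cast at this
  omega

/-- Hopf's lemma: a bilinear map without zero divisors has image of dimension at least `dim V + dim W - 1`. -/
theorem finrank_add_le {V W U : Type v} [AddCommGroup V] [Module k V] [AddCommGroup W] [Module k W]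
    [AddCommGroup U] [Module k U] [Module.Finite k V] [Module.Finite k W] [Module.Finite k U]
    [Nontrivial V] [Nontrivial W] (μ : V →ₗ[k] W →ₗ[k] U) (h : ∀ v w, μ v w = 0 → v = 0 ∨ w = 0) :
    Module.finrank k V + Module.finrank k W ≤ Module.finrank k U + 1 := by
  let bV := Module.finBasis k V
  let bW := Module.finBasis k W
  let bU := Module.finBasis k U
  refine add_le_of_no_zero Module.finrank_pos Module.finrank_pos (fun l i j => bU.repr (μ (bV i) (bW j)) l)
    fun v w hvw => ?_
  rcases h (bV.equivFun.symm v) (bW.equivFun.symm w) (bU.repr.injective (by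
    ext l
    rw [map_zero, Finsupp.zero_apply, ← hvw l]
    simp only [Module.Basis.equivFun_symm_apply, map_sum, map_smul, LinearMap.sum_apply, LinearMap.smul_apply,
      Finsupp.coe_finsetSum, Finset.sum_apply, Finsupp.coe_smul, Pi.smul_apply, smul_eq_mul]
    simp only [Finset.mul_sum]
    rw [Finset.sum_comm]
    exact Finset.sum_congr rfl fun i _ => Finset.sum_congr rfl fun j _ => by ring)) with h' | h'
  · exact Or.inl (bV.equivFun.symm.map_eq_zero_iff.mp h')
  · exact Or.inr (bW.equivFun.symm.map_eq_zero_iff.mp h')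

end HopfIneqLib

end
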