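import Groth.Agent.HopfIneqLib.Basic
import Groth.Agent.RRVanLib.GG

/-!
# Clifford's inequality for modules with nonzero `H⁰` and `H¹`
-/

set_option autoImplicit false
universe u

open CategoryTheory CategoryTheory.Limits AlgebraicGeometry

noncomputable section

namespace HopfIneqLib

variable {k : Type u} [Field k] [IsAlgClosed k] {X : Scheme.{u}} [X.Over (Spec (CommRingCat.of k))]
  [IsProper (X ↘ Spec (CommRingCat.of k))] [IsIntegral X]

/-- `h⁰(M) + h¹(M) ≤ g + 1`. -/
theorem h0_add_h1_le (hdim : topologicalKrullDim X = 1) {M : X.Modules} (hM : PicF.IsInvertible M)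
    [Nontrivial (Coh.HH X M 0)] [Nontrivial (Coh.HH X M 1)] :
    Module.finrank k (Coh.HH X M 0) + Module.finrank k (Coh.HH X M 1) ≤ Curv2.genus k X + 1 := by
  haveI := CurvLib.isNoetherian k (X := X)
  have hMc := CurvLib.isCoh_of_isInvertible hM
  haveI := CurvLib.finite_HH (k := k) hMc 0
  haveI := CurvLib.finite_HH (k := k) hMc 1
  haveI := CurvLib.finite_HH (k := k) (DevissLib.isCoh_structureModule X) 1
  let μ : Coh.HH X M 0 →ₗ[k] Module.Dual k (Coh.HH X M 1) →ₗ[k] Module.Dual k (Coh.HH X (Coh.structureModule X) 1) :=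
    (Module.Dual.transpose (R := k)).comp (RRVanLib.secMap (k := k) M)
  haveI : Nontrivial (Module.Dual k (Coh.HH X M 1)) := Module.nontrivial_of_finrank_pos (R := k)
    (by rw [Subspace.dual_finrank_eq]; exact Module.finrank_pos)
  have h := finrank_add_le μ fun v φ hv => by
    by_contra hne
    rw [not_or] at hne
    have hσ : DegPullLib.e0 M v ≠ 0 := fun h0 => hne.1 ((DegPullLib.e0 M).injective (h0.trans (map_zero _).symm))
    have hsur := RRVanLib.surjective_hMap_one (k := k) hdim hMc hM (𝟙 M) _ (RRVanLib.unitHom_ne_zero hσ)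
    refine hne.2 (LinearMap.ext fun y => ?_)
    obtain ⟨z, rfl⟩ := hsur y
    exact LinearMap.congr_fun hv z
  rw [Subspace.dual_finrank_eq, Subspace.dual_finrank_eq] at h
  exact h

/-- Clifford's inequality. -/
theorem clifford (hdim : topologicalKrullDim X = 1) {M : X.Modules} (hM : PicF.IsInvertible M)
    [Nontrivial (Coh.HH X M 0)] [Nontrivial (Coh.HH X M 1)] :
    2 * (Module.finrank k (Coh.HH X M 0) : ℤ) ≤ Curv2.deg k X M 1 + 2 := by
  have h := h0_add_h1_le (k := k) hdim hM
  have h0 := RRVanLib.finrank_h0_structure (k := k) (X := X)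
  have he := CurvLib.euler_curve (k := k) hdim M
  rw [RRVanLib.euler_eq_deg hdim h0] at he
  omega

/-- Degree bounds for sections. -/
theorem h0_bound (hdim : topologicalKrullDim X = 1) {M : X.Modules} (hM : PicF.IsInvertible M) {m : ℕ}
    (hsec : m + 1 ≤ Module.finrank k (Coh.HH X M 0)) :
    ((m : ℤ) ≤ Curv2.deg k X M 1 - Curv2.genus k X) ∨ 2 * (m : ℤ) ≤ Curv2.deg k X M 1 := by
  haveI : Nontrivial (Coh.HH X M 0) := Module.nontrivial_of_finrank_pos (R := k) (by omega)
  rcases subsingleton_or_nontrivial (Coh.HH X M 1) with h | h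
  · left
    have h0 := RRVanLib.finrank_h0_structure (k := k) (X := X)
    have he := CurvLib.euler_curve (k := k) hdim M
    rw [RRVanLib.euler_eq_deg hdim h0, Module.finrank_zero_of_subsingleton (R := k) (M := Coh.HH X M 1)] at he
    omega
  · right
    have := clifford (k := k) hdim hM
    omega

end HopfIneqLib

end
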